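import Cfsg.Prelude.Def_GeometricClasses
import Mathlib.LinearAlgebra.Matrix.ToLin
import Mathlib.LinearAlgebra.Matrix.GeneralLinearGroup.Defs
import Mathlib.LinearAlgebra.Dual.Lemmas
import Mathlib.RingTheory.IntegralDomain
import Mathlib.FieldTheory.Finite.Basic

/-!
Normalizers of field subalgebras are not maximal when the field has a proper intermediate field.
-/

set_option autoImplicit false

namespace CfsgLib.FieldNorm

open Matrix

variable {F : Type*} [Field F] {n : ℕ}

/-- A unipotent element centralizing the field `L` and moving the larger field `K`. -/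
theorem exists_moving [Fintype F] (L K : Subalgebra F (Matrix (Fin n) (Fin n) F))
    (hLc : ∀ a ∈ L, ∀ b ∈ L, a * b = b * a) (hLi : ∀ a ∈ L, a ≠ 0 → ∃ b ∈ L, a * b = 1)
    (hKc : ∀ a ∈ K, ∀ b ∈ K, a * b = b * a) (hKi : ∀ a ∈ K, a ≠ 0 → ∃ b ∈ K, a * b = 1)
    (hLK : L < K) (hdim : 2 * Module.finrank F L < n) :
    ∃ g : GL (Fin n) F, g ∈ Cfsg.Geo.specialLinear (Fin n) F ∧
      g ∈ Cfsg.Geo.subalgebraNormalizer L ∧ g ∉ Cfsg.Geo.subalgebraNormalizer K := by
  classical
  haveI : NeZero n := ⟨by omega⟩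
  have hField : IsField L :=
    { exists_pair_ne := ⟨0, 1, fun h => zero_ne_one (α := Matrix (Fin n) (Fin n) F)
        (congrArg Subtype.val h)⟩
      mul_comm := fun a b => Subtype.ext (hLc a a.2 b b.2)
      mul_inv_cancel := fun {a} ha => by
        obtain ⟨b, hb, hab⟩ := hLi a a.2 (fun h => ha (Subtype.ext h))
        exact ⟨⟨b, hb⟩, Subtype.ext hab⟩ }
  letI : Field L := hField.toField
  letI : Module L (Fin n → F) := Module.compHom _
    ((Matrix.toLinAlgEquiv' : Matrix (Fin n) (Fin n) F ≃ₐ[F] _).toAlgHom.toRingHom.comp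
      L.val.toRingHom)
  have hsmul : ∀ (l : L) (u : Fin n → F), l • u = (l : Matrix (Fin n) (Fin n) F) *ᵥ u :=
    fun l u => rfl
  obtain ⟨v, hv⟩ := exists_ne (0 : Fin n → F)
  -- the `F`-linear map `l ↦ l • v`
  let ev : L →ₗ[F] (Fin n → F) :=
    { toFun := fun l => (l : Matrix (Fin n) (Fin n) F) *ᵥ v
      map_add' := fun a b => by rw [Subalgebra.coe_add, Matrix.add_mulVec]
      map_smul' := fun c a => by rw [Subalgebra.coe_smul, Matrix.smul_mulVec]; rfl }
  have hp : Submodule.span L {v} < ⊤ := by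
    refine lt_of_le_of_ne le_top fun h => ?_
    have hsurj : Function.Surjective ev := fun u => by
      have hu : u ∈ Submodule.span L {v} := h ▸ Submodule.mem_top
      obtain ⟨l, hl⟩ := Submodule.mem_span_singleton.1 hu
      exact ⟨l, (hsmul l v).symm.trans hl⟩
    have h1 := LinearMap.finrank_range_le ev
    rw [LinearMap.range_eq_top.2 hsurj, finrank_top, Module.finrank_fin_fun] at h1
    omega
  obtain ⟨f, hf0, hfp⟩ := Submodule.exists_le_ker_of_lt_top _ hp
  have hfv : f v = 0 := hfp (Submodule.mem_span_singleton_self v)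
  obtain ⟨u₁, hu₁⟩ : ∃ u, f u = 1 := by
    obtain ⟨u, hu⟩ : ∃ u, f u ≠ 0 := by
      by_contra h
      push Not at h
      exact hf0 (LinearMap.ext h)
    exact ⟨(f u)⁻¹ • u, by rw [map_smul, smul_eq_mul, inv_mul_cancel₀ hu]⟩
  have hfF : ∀ (c : F) (u : Fin n → F), (f (c • u) : Matrix (Fin n) (Fin n) F) = c • (f u : Matrix (Fin n) (Fin n) F) := by
    intro c u
    have h : c • u = (algebraMap F L c) • u := by
      rw [hsmul, Subalgebra.coe_algebraMap, Algebra.algebraMap_eq_smul_one, Matrix.smul_mulVec,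
        Matrix.one_mulVec]
    rw [h, map_smul, smul_eq_mul, Subalgebra.coe_mul, Subalgebra.coe_algebraMap, Algebra.smul_def]
  let fF : (Fin n → F) →ₗ[F] L :=
    { toFun := f
      map_add' := map_add f
      map_smul' := fun c u => Subtype.ext (by rw [hfF]; rfl) }
  set N : Matrix (Fin n) (Fin n) F := LinearMap.toMatrix' (ev ∘ₗ fF) with hNdef
  have hN : ∀ u, N *ᵥ u = (f u : Matrix (Fin n) (Fin n) F) *ᵥ v := by
    intro u
    rw [hNdef, ← Matrix.toLin'_apply, Matrix.toLin'_toMatrix']
    rfl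
  have hcomm : ∀ l ∈ L, l * N = N * l := by
    intro l hl
    apply Matrix.toLin'.injective
    refine LinearMap.ext fun u => ?_
    rw [Matrix.toLin'_apply, Matrix.toLin'_apply, ← Matrix.mulVec_mulVec, ← Matrix.mulVec_mulVec,
      hN, hN, ← hsmul ⟨l, hl⟩ u, map_smul, smul_eq_mul, Subalgebra.coe_mul,
      ← Matrix.mulVec_mulVec]
  have hN2 : N * N = 0 := by
    apply Matrix.toLin'.injective
    refine LinearMap.ext fun u => ?_
    rw [Matrix.toLin'_apply, ← Matrix.mulVec_mulVec, hN, hN]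
    have : f ((f u : Matrix (Fin n) (Fin n) F) *ᵥ v) = 0 := by
      rw [← hsmul, map_smul, hfv, smul_zero]
    rw [this, Subalgebra.coe_zero, Matrix.zero_mulVec, map_zero, LinearMap.zero_apply]
  let g : GL (Fin n) F :=
    ⟨1 + N, 1 - N, by rw [add_mul, one_mul, mul_sub, mul_one, hN2]; abel,
      by rw [sub_mul, one_mul, mul_add, mul_one, hN2]; abel⟩
  have hg : (g : Matrix (Fin n) (Fin n) F) = 1 + N := rfl
  have hgi : ((g⁻¹ : GL (Fin n) F) : Matrix (Fin n) (Fin n) F) = 1 - N := rfl
  refine ⟨g, ?_, ?_, ?_⟩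
  · obtain ⟨p, hcp⟩ := CharP.exists F
    haveI : Fact p.Prime := ⟨CharP.char_is_prime F p⟩
    have hpow : ∀ m : ℕ, (1 + N) ^ m = 1 + (m : ℕ) • N := by
      intro m
      induction m with
      | zero => simp
      | succ m ih =>
        rw [pow_succ, ih, add_mul, one_mul, mul_add, mul_one, smul_mul_assoc, hN2, smul_zero,
          add_zero, succ_nsmul]
        abel
    have h1 : (1 + N) ^ p = 1 := by
      rw [hpow, ← Nat.cast_smul_eq_nsmul F, CharP.cast_eq_zero, zero_smul, add_zero]
    have h2 : (Matrix.det (1 + N) - 1) ^ p = 0 := by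
      rw [sub_pow_char, one_pow, ← Matrix.det_pow, h1, Matrix.det_one, sub_self]
    rw [Cfsg.Geo.specialLinear, MonoidHom.mem_ker]
    ext
    rw [Matrix.GeneralLinearGroup.val_det_apply, hg, Units.val_one]
    exact sub_eq_zero.1 (eq_zero_of_pow_eq_zero h2)
  · intro k
    rw [hg, hgi]
    have hc : ∀ l ∈ L, (1 + N) * l * (1 - N) = l := by
      intro l hl
      rw [add_mul, one_mul, ← hcomm l hl, mul_sub, mul_one, add_mul, mul_assoc l N N, hN2,
        mul_zero, add_zero]
      abel
    refine ⟨fun hk => by rw [hc k hk]; exact hk, fun hk => ?_⟩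
    have h1 : (1 - N) * (1 + N) = 1 := by
      rw [sub_mul, one_mul, mul_add, mul_one, hN2]; abel
    have e : k = (1 - N) * ((1 + N) * k * (1 - N)) * (1 + N) := by
      calc k = (1 - N) * (1 + N) * k * ((1 - N) * (1 + N)) := by rw [h1, one_mul, mul_one]
        _ = _ := by simp only [mul_assoc]
    have e2 : (1 - N) * ((1 + N) * k * (1 - N)) * (1 + N) = (1 + N) * k * (1 - N) := by
      generalize hm : (1 + N) * k * (1 - N) = m at hk
      rw [sub_mul, one_mul, ← hcomm m hk, mul_add, mul_one, sub_mul, mul_assoc m N N, hN2,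
        mul_zero, sub_zero]
      abel
    rw [e, e2]
    exact hk
  · intro hgK
    obtain ⟨k, hkK, hkL⟩ := SetLike.exists_of_lt hLK
    have hk' : (1 + N) * k * (1 - N) ∈ K := (hgK k).1 hkK
    set k' := (1 + N) * k * (1 - N) with hk'def
    have heq : (1 + N) * k = k' * (1 + N) := by
      rw [hk'def, mul_assoc _ (1 - N) (1 + N),
        show (1 - N) * (1 + N) = 1 by rw [← hg, ← hgi, Units.inv_mul], mul_one]
    by_cases hD : k' - k = 0
    · rw [sub_eq_zero.1 hD, add_mul, one_mul, mul_add, mul_one] at heq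
      have h := congrArg (fun M : Matrix (Fin n) (Fin n) F => M *ᵥ u₁) (add_left_cancel heq)
      simp only [← Matrix.mulVec_mulVec, hN, hu₁, Subalgebra.coe_one, Matrix.one_mulVec] at h
      apply hkL
      by_contra hc
      set c : L := f (k *ᵥ u₁) with hcdef
      have hd0 : k - (c : Matrix (Fin n) (Fin n) F) ≠ 0 := fun h0 =>
        hc (sub_eq_zero.1 h0 ▸ c.2)
      obtain ⟨b, -, hb⟩ := hKi _ (K.sub_mem hkK (hLK.le c.2)) hd0
      have hb' : b * (k - (c : Matrix (Fin n) (Fin n) F)) = 1 := mul_eq_one_comm.1 hb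
      apply hv
      have h0 : (k - (c : Matrix (Fin n) (Fin n) F)) *ᵥ v = 0 := by
        rw [Matrix.sub_mulVec, ← h, sub_self]
      rw [← Matrix.one_mulVec v, ← hb', ← Matrix.mulVec_mulVec, h0, Matrix.mulVec_zero]
    · obtain ⟨b, -, hb⟩ := hKi _ (K.sub_mem hk' hkK) hD
      have hb' : b * (k' - k) = 1 := mul_eq_one_comm.1 hb
      let φ : LinearMap.ker fF →ₗ[F] (Fin n → F) :=
        (Matrix.toLin' (k' - k)).comp (LinearMap.ker fF).subtype
      have hφi : Function.Injective φ := by
        intro a a' h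
        apply Subtype.ext
        have h' : (k' - k) *ᵥ (a : Fin n → F) = (k' - k) *ᵥ (a' : Fin n → F) := h
        have := congrArg (fun w => b *ᵥ w) h'
        simpa only [Matrix.mulVec_mulVec, hb', Matrix.one_mulVec] using this
      have hφr : LinearMap.range φ ≤ LinearMap.range ev := by
        rintro _ ⟨⟨u, hu⟩, rfl⟩
        have hfu : f u = 0 := hu
        have h := congrArg (fun M : Matrix (Fin n) (Fin n) F => M *ᵥ u) heq
        simp only [← Matrix.mulVec_mulVec, Matrix.add_mulVec, Matrix.one_mulVec, hN, hfu,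
          Subalgebra.coe_zero, Matrix.zero_mulVec, add_zero] at h
        refine ⟨f (k *ᵥ u), ?_⟩
        change (f (k *ᵥ u) : Matrix (Fin n) (Fin n) F) *ᵥ v = (k' - k) *ᵥ u
        rw [Matrix.sub_mulVec, ← h, add_sub_cancel_left]
      have h1 := Submodule.finrank_mono hφr
      rw [LinearMap.finrank_range_of_inj hφi] at h1
      have h2 := LinearMap.finrank_range_le ev
      have h3 := LinearMap.finrank_range_add_finrank_ker fF
      have h4 := Submodule.finrank_le (LinearMap.range fF)
      rw [Module.finrank_fin_fun] at h3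
      omega

/-- Field subalgebras of composite degree contain an invariant intermediate field. -/
theorem exists_middle [Fintype F] {r : ℕ} (K : Subalgebra F (Matrix (Fin n) (Fin n) F))
    (hK : Cfsg.Geo.IsFieldSubalgebra r K) [NeZero n] (hr1 : 1 < r) (hrp : ¬ r.Prime) :
    ∃ L : Subalgebra F (Matrix (Fin n) (Fin n) F), ⊥ < L ∧ L < K ∧
      (∀ a ∈ L, ∀ b ∈ L, a * b = b * a) ∧ (∀ a ∈ L, a ≠ 0 → ∃ b ∈ L, a * b = 1) ∧
      Module.finrank F L < r ∧
      Cfsg.Geo.subalgebraNormalizer K ≤ Cfsg.Geo.subalgebraNormalizer L := by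
  classical
  obtain ⟨s, hsr, hs1, hs⟩ := Nat.exists_dvd_of_not_prime2 (by omega) hrp
  have hField : IsField K :=
    { exists_pair_ne := ⟨0, 1, fun h => zero_ne_one (α := Matrix (Fin n) (Fin n) F)
        (congrArg Subtype.val h)⟩
      mul_comm := fun a b => Subtype.ext (hK.comm a a.2 b b.2)
      mul_inv_cancel := fun {a} ha => by
        obtain ⟨b, hb, hab⟩ := hK.inv a a.2 (fun h => ha (Subtype.ext h))
        exact ⟨⟨b, hb⟩, Subtype.ext hab⟩ }
  letI : Field K := hField.toField
  letI : Fintype K := Fintype.ofFinite K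
  obtain ⟨p, hcp⟩ := CharP.exists F
  haveI : Fact p.Prime := ⟨CharP.char_is_prime F p⟩
  obtain ⟨e, -, hq⟩ := FiniteField.card F p
  haveI : CharP K p := charP_of_injective_algebraMap (algebraMap F K).injective p
  set q := Fintype.card F with hqdef
  have hq1 : 1 < q := Fintype.one_lt_card
  have hKcard : Fintype.card K = q ^ r := by
    rw [hqdef, ← hK.finrank_eq]; exact Module.card_eq_pow_finrank
  set Q := q ^ s with hQdef
  have hQp : Q = p ^ ((e : ℕ) * s) := by rw [hQdef, hq, pow_mul]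
  let L' : Subalgebra F K :=
    { carrier := {k : K | k ^ Q = k}
      mul_mem' := fun {a b} ha hb => by
        simp only [Set.mem_ofPred_eq] at ha hb ⊢
        rw [mul_pow, ha, hb]
      add_mem' := fun {a b} ha hb => by
        simp only [Set.mem_ofPred_eq] at ha hb ⊢
        rw [hQp, add_pow_char_pow, ← hQp, ha, hb]
      algebraMap_mem' := fun c => by
        simp only [Set.mem_ofPred_eq]
        rw [← map_pow, hQdef, hqdef, FiniteField.pow_card_pow] }
  refine ⟨L'.map K.val, ?_, ?_, ?_, ?_, ?_, ?_⟩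
  · -- larger than the scalars
    rw [bot_lt_iff_ne_bot]
    intro hbot
    obtain ⟨t, ht⟩ := IsCyclic.exists_generator (α := Kˣ)
    have hordt : orderOf t = q ^ r - 1 := by
      rw [orderOf_eq_card_of_forall_mem_zpowers ht, Nat.card_units, Nat.card_eq_fintype_card, hKcard]
    have hQ1 : Q - 1 ∣ q ^ r - 1 := by
      obtain ⟨m, hm⟩ := hsr
      have h := Nat.sub_one_dvd_pow_sub_one Q m
      rwa [hQdef, ← pow_mul, ← hm, ← hQdef] at h
    set u := t ^ ((q ^ r - 1) / (Q - 1))
    have hqr : 1 < q ^ r := Nat.one_lt_pow (by omega) hq1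
    have hordu : orderOf u = Q - 1 := by
      have hd0 : (q ^ r - 1) / (Q - 1) ≠ 0 := by
        have hQpos : 0 < Q - 1 := Nat.pos_of_dvd_of_pos hQ1 (by omega)
        exact (Nat.div_pos (Nat.le_of_dvd (by omega) hQ1) hQpos).ne'
      rw [orderOf_pow' t hd0, hordt, Nat.gcd_eq_right (Nat.div_dvd_of_dvd hQ1),
        Nat.div_div_self hQ1 (by omega)]
    have huL : ((u : K) : Matrix (Fin n) (Fin n) F) ∈ L'.map K.val := by
      refine ⟨(u : K), ?_, rfl⟩
      change (u : K) ^ Q = (u : K)
      have h : u ^ Q = u := by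
        have hQ0 : 1 ≤ Q := Nat.one_le_pow _ _ (by omega)
        rw [← Nat.sub_add_cancel hQ0, pow_succ, ← hordu, pow_orderOf_eq_one, one_mul]
      rw [← Units.val_pow_eq_pow_val, h]
    rw [hbot, Algebra.mem_bot] at huL
    obtain ⟨c, hc⟩ := huL
    have hcu : algebraMap F K c = (u : K) := Subtype.ext hc
    have hc0 : c ≠ 0 := fun h => u.ne_zero (by rw [← hcu, h, map_zero])
    have hpow : u ^ (q - 1) = 1 := Units.ext (by
      rw [Units.val_pow_eq_pow_val, ← hcu, ← map_pow, FiniteField.pow_card_sub_one_eq_one c hc0,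
        map_one, Units.val_one])
    have hle := Nat.le_of_dvd (by omega) (orderOf_dvd_of_pow_eq_one hpow)
    rw [hordu] at hle
    have : q < Q := by
      calc q = q ^ 1 := (pow_one q).symm
        _ < q ^ s := Nat.pow_lt_pow_right hq1 (by omega)
    omega
  · -- smaller than `K`
    refine lt_of_le_of_ne ?_ fun h => ?_
    · rintro _ ⟨k, -, rfl⟩
      exact k.2
    · have hall : ∀ k : K, k ^ Q = k := by
        intro k
        have hk : (k : Matrix (Fin n) (Fin n) F) ∈ L'.map K.val := by rw [h]; exact k.2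
        obtain ⟨k₀, hk₀, he⟩ := hk
        have : k₀ = k := Subtype.ext he
        exact this ▸ hk₀
      have hQ2 : 1 < Q := Nat.one_lt_pow (by omega) hq1
      have hle : Fintype.card K ≤ Q := by
        have hsub : (Finset.univ : Finset K).val ≤ (Polynomial.X ^ Q - Polynomial.X : Polynomial K).roots := by
          rw [Multiset.le_iff_subset Finset.univ.nodup]
          intro k _
          rw [Polynomial.mem_roots (FiniteField.X_pow_card_sub_X_ne_zero K hQ2)]
          simp [Polynomial.IsRoot, hall k]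
        have := (Multiset.card_le_card hsub).trans (Polynomial.card_roots' _)
        rwa [FiniteField.X_pow_card_sub_X_natDegree_eq K hQ2] at this
      rw [hKcard, hQdef] at hle
      exact absurd (Nat.pow_lt_pow_right hq1 hs) (not_lt.2 hle)
  · rintro _ ⟨a, -, rfl⟩ _ ⟨b, -, rfl⟩
    exact hK.comm a a.2 b b.2
  · rintro _ ⟨a, ha, rfl⟩ ha0
    have ha0' : a ≠ 0 := fun h => ha0 (by rw [h]; rfl)
    refine ⟨((a⁻¹ : K) : Matrix (Fin n) (Fin n) F), ⟨a⁻¹, ?_, rfl⟩, congrArg Subtype.val (mul_inv_cancel₀ ha0')⟩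
    change (a⁻¹) ^ Q = a⁻¹
    rw [inv_pow, ha]
  · have hlt : L'.map K.val ≠ K := by
      intro h
      have hall : ∀ k : K, k ∈ L' := by
        intro k
        have hk : (k : Matrix (Fin n) (Fin n) F) ∈ L'.map K.val := by rw [h]; exact k.2
        obtain ⟨k₀, hk₀, he⟩ := hk
        have : k₀ = k := Subtype.ext he
        exact this ▸ hk₀
      have hQ2 : 1 < Q := Nat.one_lt_pow (by omega) hq1
      have hle : Fintype.card K ≤ Q := by
        have hsub : (Finset.univ : Finset K).val ≤ (Polynomial.X ^ Q - Polynomial.X : Polynomial K).roots := by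
          rw [Multiset.le_iff_subset Finset.univ.nodup]
          intro k _
          rw [Polynomial.mem_roots (FiniteField.X_pow_card_sub_X_ne_zero K hQ2)]
          have hk : k ^ Q = k := hall k
          simp [Polynomial.IsRoot, hk]
        have := (Multiset.card_le_card hsub).trans (Polynomial.card_roots' _)
        rwa [FiniteField.X_pow_card_sub_X_natDegree_eq K hQ2] at this
      rw [hKcard, hQdef] at hle
      exact absurd (Nat.pow_lt_pow_right hq1 hs) (not_lt.2 hle)
    rw [← hK.finrank_eq]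
    exact Submodule.finrank_lt_finrank_of_lt (s := Subalgebra.toSubmodule (L'.map K.val))
      (t := Subalgebra.toSubmodule K) (lt_of_le_of_ne (by rintro _ ⟨k, -, rfl⟩; exact k.2)
        (fun h => hlt (Subalgebra.toSubmodule.injective h)))
  · intro g hg k
    have key : ∀ (g : GL (Fin n) F), g ∈ Cfsg.Geo.subalgebraNormalizer K → ∀ k ∈ L'.map K.val,
        (g : Matrix (Fin n) (Fin n) F) * k * ((g⁻¹ : GL (Fin n) F) : Matrix (Fin n) (Fin n) F)
          ∈ L'.map K.val := by
      rintro g hg _ ⟨a, ha, rfl⟩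
      refine ⟨⟨_, (hg a).1 a.2⟩, Subtype.ext ?_, rfl⟩
      have ha' : (a : Matrix (Fin n) (Fin n) F) ^ Q = a := congrArg Subtype.val ha
      simp only [SubmonoidClass.coe_pow]
      rw [Units.conj_pow, ha']
    refine ⟨key g hg k, fun h => ?_⟩
    have h2 := key g⁻¹ (inv_mem hg) _ h
    simpa [mul_assoc] using h2

theorem not_maximal [Fintype F] {r : ℕ} (hr1 : 1 < r) (hrp : ¬ r.Prime) (hrn : r ∣ n) (hlt : r < n)
    (K : Subalgebra F (Matrix (Fin n) (Fin n) F)) (hK : Cfsg.Geo.IsFieldSubalgebra r K) :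
    ¬ IsCoatom (Cfsg.Geo.subalgebraNormalizer K) ∧
      ¬ Cfsg.Geo.IsMaximalIn (Cfsg.Geo.specialLinear (Fin n) F)
        (Cfsg.Geo.subalgebraNormalizer K ⊓ Cfsg.Geo.specialLinear (Fin n) F) := by
  haveI : NeZero n := ⟨by omega⟩
  have h2r : 2 * r ≤ n := by
    obtain ⟨m, rfl⟩ := hrn
    rcases m with _ | _ | m
    · omega
    · omega
    · calc 2 * r = r * 2 := by ring
        _ ≤ r * (m + 2) := Nat.mul_le_mul_left _ (by omega)
  obtain ⟨L, hL0, hLK, hLc, hLi, hLd, hNle⟩ := exists_middle K hK hr1 hrp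
  obtain ⟨g, hgS, hgL, hgK⟩ := exists_moving L K hLc hLi hK.comm hK.inv hLK (by omega)
  have hbc : ∀ a ∈ (⊥ : Subalgebra F (Matrix (Fin n) (Fin n) F)),
      ∀ b ∈ (⊥ : Subalgebra F (Matrix (Fin n) (Fin n) F)), a * b = b * a := fun a ha b hb =>
    hLc a (hL0.le ha) b (hL0.le hb)
  obtain ⟨h, hhS, -, hhL⟩ := exists_moving ⊥ L hbc
    (fun a ha ha0 => by
      obtain ⟨c, rfl⟩ := Algebra.mem_bot.1 ha
      have hc : c ≠ 0 := fun h => ha0 (by rw [h, map_zero])
      exact ⟨_, Algebra.mem_bot.2 ⟨c⁻¹, rfl⟩, by rw [← map_mul, mul_inv_cancel₀ hc, map_one]⟩)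
    hLc hLi hL0 (by rw [Subalgebra.finrank_bot]; omega)
  refine ⟨fun hco => hhL ?_, fun hmax => ?_⟩
  · have := hco.2 _ (lt_of_le_of_ne hNle fun e => hgK (e ▸ hgL))
    rw [this]
    exact Subgroup.mem_top h
  · rcases hmax.2 (Cfsg.Geo.subalgebraNormalizer L ⊓ Cfsg.Geo.specialLinear (Fin n) F)
      (inf_le_inf_right _ hNle) inf_le_right with e | e
    · have hmem : g ∈ Cfsg.Geo.subalgebraNormalizer L ⊓ Cfsg.Geo.specialLinear (Fin n) F :=
        ⟨hgL, hgS⟩
      rw [e] at hmem
      exact hgK hmem.1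
    · have hmem : h ∈ Cfsg.Geo.specialLinear (Fin n) F := hhS
      rw [← e] at hmem
      exact hhL hmem.1

end CfsgLib.FieldNorm
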